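import Cfsg.Agent.PGUThreeEven.Centralizer
import Cfsg.Agent.RankOne.Classify.GlueBender

/-!
A group with one class of involutions whose centralisers have the shape of those in `PGU₃(q)` and
without a normal Sylow 2-subgroup has strongly embedded Sylow normalisers.
-/

set_option autoImplicit false
set_option linter.unusedSectionVars false
set_option linter.style.haveILetI false

namespace CfsgLib.PGUThreeEven

open Cfsg CfsgLib.StrongEmb

variable {G : Type*} [Group G] [Finite G] {n : ℕ}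

/-- What the main part needs of the Sylow normaliser. -/
structure LocalData (G : Type*) [Group G] (n : ℕ) (S : Subgroup G) (H : Subgroup G) : Prop where
  le : S ≤ H
  normalizes : H ≤ Subgroup.normalizer (S : Set G)
  card_S : Nat.card S = (2 ^ n) ^ 3
  sylow : ∀ P : Subgroup G, IsPGroup 2 P → P ≤ H → P ≤ S
  se : Cfsg.IsStronglyEmbedded H
  rankTwo : RankTwo G
  core : H.normalCore = ⊥
  invol : Nat.card (Cfsg.involutionsIn (H : Set G)) + 1 = 2 ^ n
  card_H : Nat.card H = (2 ^ n - 1) * ((2 ^ n) ^ 3 * (2 ^ n + 1))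
  cent_card : ∀ s ∈ H, orderOf s = 2 →
    Nat.card (Subgroup.centralizer ({s} : Set G)) = (2 ^ n) ^ 3 * (2 ^ n + 1) ∧
      Subgroup.centralizer ({s} : Set G) ≤ H ∧ S ≤ Subgroup.centralizer ({s} : Set G) ∧
      ∀ s' ∈ H, orderOf s' = 2 → ∀ x ∈ Subgroup.centralizer ({s} : Set G), x * s' = s' * x

theorem exists_localData (hn : 2 ≤ n) (heven : Even (Nat.card G))
    (hconj : ∀ s t : G, orderOf s = 2 → orderOf t = 2 → IsConj s t)
    (hC : ∀ x : G, orderOf x = 2 →
      CentShape ↥(Subgroup.centralizer ({x} : Set G)) (2 ^ n))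
    (hS : ∀ P : Sylow 2 G, ¬ (P : Subgroup G).Normal) :
    ∃ S H : Subgroup G, LocalData G n S H := by
  classical
  haveI : Fact (Nat.Prime 2) := ⟨Nat.prime_two⟩
  set q := 2 ^ n with hq
  have hq2 : 4 ≤ q := le_trans (by norm_num) (Nat.pow_le_pow_right two_pos hn)
  have hqe : Even q := Nat.even_pow.mpr ⟨even_two, by omega⟩
  have hqodd : Odd (q + 1) := hqe.add_one
  obtain ⟨x₀, hx₀⟩ := exists_prime_orderOf_dvd_card' 2 (even_iff_two_dvd.mp heven)
  -- in each centraliser the unipotent part absorbs the 2-subgroups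
  have habs : ∀ (C : Subgroup G) (U : Subgroup C), U.Normal → Nat.card U = q ^ 3 →
      Nat.card C = q ^ 3 * (q + 1) → ∀ g : C, (∃ k : ℕ, (g : G) ^ 2 ^ k = 1) → g ∈ U := by
    intro C U hU hUc hCc g hg
    obtain ⟨k, hk⟩ := hg
    have hidx : U.index = q + 1 := by
      have h := Subgroup.card_mul_index U
      rw [hUc, hCc] at h
      exact Nat.eq_of_mul_eq_mul_left (pow_pos (by omega) 3) h
    rw [← QuotientGroup.eq_one_iff (N := U) g, ← orderOf_eq_one_iff]
    refine Nat.eq_one_of_dvd_coprimes ?_ ((orderOf_map_dvd (QuotientGroup.mk' U) g).trans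
      (orderOf_dvd_of_pow_eq_one (Subtype.ext hk : g ^ 2 ^ k = 1)))
      (hidx ▸ Subgroup.index_eq_card U ▸ orderOf_dvd_natCard _)
    exact Nat.Coprime.pow_left k (Nat.coprime_two_left.2 hqodd)
  -- the base centraliser
  set C₀ := Subgroup.centralizer ({x₀} : Set G) with hC₀
  obtain ⟨U, hUn, hUc, hCc, hUi, hUz, hUs⟩ := hC x₀ hx₀
  set S := U.map C₀.subtype with hSdef
  have hSC : S ≤ C₀ := Subgroup.map_subtype_le U
  have hScard : Nat.card S = q ^ 3 := by
    rw [← hUc]; exact (Nat.card_congr (U.equivMapOfInjective _ C₀.subtype_injective).toEquiv).symm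
  have hSp : IsPGroup 2 S := IsPGroup.of_card (n := n * 3) (by rw [hScard, hq, ← pow_mul])
  have hx₀S : x₀ ∈ S := by
    refine ⟨⟨x₀, ?_⟩, habs C₀ U hUn hUc hCc ⟨x₀, ?_⟩ ⟨1, ?_⟩, rfl⟩ <;>
      first
        | exact Subgroup.mem_centralizer_singleton_iff.mpr rfl
        | (rw [pow_one, ← hx₀]; exact pow_orderOf_eq_one x₀)
  have hC₀S : C₀ ≤ Subgroup.normalizer (S : Set G) := by
    intro g hg
    rw [Subgroup.mem_normalizer_iff_map_conj_eq]
    have key : ∀ h ∈ C₀, S.map (MulAut.conj h).toMonoidHom ≤ S := by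
      rintro h hh _ ⟨_, ⟨u, hu, rfl⟩, rfl⟩
      exact ⟨⟨h, hh⟩ * u * ⟨h, hh⟩⁻¹, hUn.conj_mem u hu _, by simp⟩
    refine le_antisymm (key g hg) fun s hs => ?_
    refine ⟨g⁻¹ * s * g, ?_, by simp [mul_assoc]⟩
    exact key g⁻¹ (inv_mem hg) ⟨s, hs, by simp⟩
  have hcentral : ∀ s ∈ S, orderOf s = 2 → ∀ g ∈ C₀, g * s = s * g := by
    rintro _ ⟨u, hu, rfl⟩ hs g hg
    have hu2 : u * u = 1 := Subtype.ext (by
      have := pow_orderOf_eq_one (C₀.subtype u)
      rw [hs, sq] at this
      exact this)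
    exact congrArg Subtype.val (Subgroup.mem_center_iff.mp (hUz u hu hu2) ⟨g, hg⟩)
  have hcards : ∀ x : G, orderOf x = 2 →
      Nat.card (Subgroup.centralizer ({x} : Set G)) = q ^ 3 * (q + 1) := fun x hx => by
    obtain ⟨_, _, _, h, _⟩ := hC x hx
    exact h
  have hCeq : ∀ s ∈ S, orderOf s = 2 → Subgroup.centralizer ({s} : Set G) = C₀ := by
    intro s hs hs2
    refine (Subgroup.eq_of_le_of_card_ge (fun g hg => ?_) ?_).symm
    · exact Subgroup.mem_centralizer_singleton_iff.mpr (hcentral s hs hs2 g hg)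
    · rw [hcards s hs2, hCc]
  have hI : Nat.card (Cfsg.involutionsIn (S : Set G)) + 1 = q := by
    have e : {x : C₀ // x ∈ U ∧ x * x = 1} ≃ ↥(insert (1 : G) (Cfsg.involutionsIn (S : Set G))) :=
      Equiv.ofBijective (fun x => ⟨(x.1 : G), by
        by_cases h : (x.1 : G) = 1
        · exact Or.inl h
        · exact Or.inr ⟨Subgroup.mem_map_of_mem _ x.2.1, h, congrArg Subtype.val x.2.2⟩⟩)
        ⟨fun x y h => Subtype.ext (Subtype.ext (congrArg Subtype.val h :)), fun z => by
          obtain ⟨z, hz⟩ := z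
          rcases hz with rfl | ⟨⟨u, hu, rfl⟩, -, h2⟩
          · exact ⟨⟨1, one_mem U, one_mul 1⟩, rfl⟩
          · exact ⟨⟨u, hu, Subtype.ext h2⟩, rfl⟩⟩
    have h1 : (1 : G) ∉ Cfsg.involutionsIn (S : Set G) := fun h => h.2.1 rfl
    rw [← hUi, Nat.card_congr e, Nat.card_coe_set_eq, Nat.card_coe_set_eq,
      Set.ncard_insert_of_notMem h1 (Set.toFinite _)]
  set I := Cfsg.involutionsIn (S : Set G) with hIdef
  have hImem : ∀ s, s ∈ I ↔ s ∈ S ∧ orderOf s = 2 := fun s => by
    rw [orderOf_eq_prime_iff]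
    constructor
    · rintro ⟨h1, h2, h3⟩; exact ⟨h1, by rw [sq, h3], h2⟩
    · rintro ⟨h1, h2, h3⟩; exact ⟨h1, h3, by rw [← sq, h2]⟩
  -- a 2-group normalising `S` lies in `S`
  have hsyl : ∀ P : Subgroup G, IsPGroup 2 P → P ≤ Subgroup.normalizer (S : Set G) → P ≤ S := by
    intro P hP hPS
    haveI := (Subgroup.normal_subgroupOf_iff_le_normalizer
      (show S ≤ P ⊔ S from le_sup_right)).mpr (sup_le hPS Subgroup.le_normalizer)
    set R := P ⊔ S with hR
    have hRp : IsPGroup 2 R := hP.to_sup_of_normal_right' hSp hPS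
    letI : MulAction R I :=
      { smul := fun r s => ⟨(r : G) * s.1 * (r : G)⁻¹, (hImem _).2 ⟨by
            have hr : (r : G) ∈ Subgroup.normalizer (S : Set G) :=
              sup_le hPS Subgroup.le_normalizer r.2
            exact (Subgroup.mem_normalizer_iff.mp hr s.1).mp ((hImem _).1 s.2).1, by
            rw [CfsgLib.StronglyEmbedded.orderOf_conj]; exact ((hImem _).1 s.2).2⟩⟩
        one_smul := fun s => Subtype.ext (by
          show (1 : G) * s.1 * (1 : G)⁻¹ = s.1; simp)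
        mul_smul := fun r r' s => Subtype.ext (by
          show ((r : G) * r') * s.1 * ((r : G) * r')⁻¹ = r * (r' * s.1 * (r' : G)⁻¹) * (r : G)⁻¹
          group) }
    have hodd : ¬ 2 ∣ Nat.card I := by
      intro h
      have : Odd (Nat.card I) := by
        rcases Nat.even_or_odd (Nat.card I) with he | ho
        · exact absurd (hI ▸ hqe : Even (Nat.card I + 1)) (Nat.not_even_iff_odd.mpr he.add_one)
        · exact ho
      exact Nat.not_even_iff_odd.mpr this (even_iff_two_dvd.mpr h)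
    obtain ⟨s, hs⟩ := hRp.nonempty_fixed_point_of_prime_not_dvd_card I hodd
    obtain ⟨hsS, hs2⟩ := (hImem _).1 s.2
    have hRC : R ≤ C₀ := by
      rw [← hCeq s.1 hsS hs2]
      intro r hr
      rw [Subgroup.mem_centralizer_singleton_iff]
      have h : r * s.1 * r⁻¹ = s.1 := congrArg Subtype.val (hs ⟨r, hr⟩)
      calc r * s.1 = r * s.1 * r⁻¹ * r := by group
        _ = s.1 * r := by rw [h]
    intro x hx
    obtain ⟨k, hk⟩ := hP ⟨x, hx⟩
    exact ⟨⟨x, hRC (Subgroup.mem_sup_left hx)⟩,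
      habs C₀ U hUn hUc hCc _ ⟨k, congrArg Subtype.val hk⟩, rfl⟩
  set H := Subgroup.normalizer (S : Set G) with hH
  have hHinv : ∀ s ∈ H, orderOf s = 2 → s ∈ S := fun s hs hs2 =>
    hsyl (Subgroup.zpowers s) (IsPGroup.of_card (n := 1) (by rw [Nat.card_zpowers, hs2, pow_one]))
      (Subgroup.zpowers_le.mpr hs) (Subgroup.mem_zpowers s)
  -- conjugating one involution of `S` into `S`
  have hfus : ∀ g : G, ∀ s ∈ S, orderOf s = 2 → g * s * g⁻¹ ∈ S → g ∈ H := by
    intro g s hs hs2 hg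
    have e1 := hCeq s hs hs2
    have e2 := hCeq _ hg (by rw [CfsgLib.StronglyEmbedded.orderOf_conj, hs2])
    have hconjC : ∀ c, c ∈ C₀ ↔ g * c * g⁻¹ ∈ C₀ := by
      intro c
      conv_lhs => rw [← e1]
      rw [← e2, Subgroup.mem_centralizer_singleton_iff, Subgroup.mem_centralizer_singleton_iff]
      constructor
      · intro h
        calc g * c * g⁻¹ * (g * s * g⁻¹) = g * (c * s) * g⁻¹ := by group
          _ = g * s * g⁻¹ * (g * c * g⁻¹) := by rw [h]; group
      · intro h
        apply mul_left_cancel (a := g)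
        apply mul_right_cancel (b := g⁻¹)
        calc g * (c * s) * g⁻¹ = g * c * g⁻¹ * (g * s * g⁻¹) := by group
          _ = g * (s * c) * g⁻¹ := by rw [h]; group
    have hle : S.map (MulAut.conj g).toMonoidHom ≤ C₀ := by
      rintro _ ⟨x, hx, rfl⟩
      exact (hconjC x).mp (hSC hx)
    have hle' : S.map (MulAut.conj g).toMonoidHom ≤ S :=
      hsyl _ (hSp.map _) (hle.trans hC₀S)
    rw [hH, Subgroup.mem_normalizer_iff_map_conj_eq]
    exact Subgroup.eq_of_le_of_card_ge hle'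
      (le_of_eq (Nat.card_congr (S.equivMapOfInjective _ (MulAut.conj g).injective).toEquiv))
  have hSH : S ≤ H := Subgroup.le_normalizer
  have hHtop : H ≠ ⊤ := by
    intro htop
    obtain ⟨P, hP⟩ := hSp.exists_le_sylow
    have : (P : Subgroup G) = S :=
      le_antisymm (hsyl _ P.2 (htop ▸ le_top)) hP
    exact hS P (this ▸ Subgroup.normalizer_eq_top_iff.mp htop)
  have hse : Cfsg.IsStronglyEmbedded H := by
    refine ⟨hHtop, even_iff_two_dvd.mpr (hx₀ ▸ ?_), fun g hg => ?_⟩
    · exact Subgroup.orderOf_dvd_natCard _ (hSH hx₀S)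
    · by_contra hne
      rw [Nat.not_odd_iff_even, even_iff_two_dvd] at hne
      obtain ⟨⟨s, hs⟩, hs2⟩ := exists_prime_orderOf_dvd_card' 2 hne
      rw [← Subgroup.orderOf_coe] at hs2
      obtain ⟨y, hy, hys⟩ := (Subgroup.mem_inf.mp hs).2
      have hsS : s ∈ S := hHinv s (Subgroup.mem_inf.mp hs).1 hs2
      have hys' : g * y * g⁻¹ = s := hys
      replace hs2 : orderOf s = 2 := hs2
      have hy2 : orderOf y = 2 := by
        rwa [← hys', CfsgLib.StronglyEmbedded.orderOf_conj] at hs2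
      exact hg (hfus g y (hHinv y hy hy2) hy2 (by rw [hys']; exact hsS))
  have hIH : Cfsg.involutionsIn (H : Set G) = I := by
    ext s
    rw [hImem]
    refine ⟨fun h => ?_, fun h => ?_⟩
    · have h2 : orderOf s = 2 := orderOf_eq_prime_iff.mpr ⟨by rw [sq, h.2.2], h.2.1⟩
      exact ⟨hHinv s h.1 h2, h2⟩
    · exact ⟨hSH h.1, ((hImem s).2 h).2⟩
  refine ⟨S, H, hSH, le_rfl, hScard, hsyl, hse, ?_, ?_, by rw [hIH]; exact hI, ?_,
    fun s hs hs2 => ?_⟩
  · -- two commuting involutions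
    obtain ⟨s, hs, hne⟩ : ∃ s ∈ I, s ≠ x₀ := by
      by_contra h
      push Not at h
      have : Nat.card I ≤ 1 := Finite.card_le_one_iff_subsingleton.mpr
        ⟨fun a b => Subtype.ext ((h a a.2).trans (h b b.2).symm)⟩
      omega
    obtain ⟨hsS, hs2⟩ := (hImem s).1 hs
    exact ⟨s, x₀, hs2, hx₀, hne, (hcentral s hsS hs2 x₀ (hSC hx₀S)).symm⟩
  · -- the core is trivial
    set K := H.normalCore with hK
    have hKH : K ≤ H := Subgroup.normalCore_le H
    haveI : K.Normal := Subgroup.normalCore_normal H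
    have hnoinv : ∀ s ∈ K, orderOf s ≠ 2 := by
      intro s hs hs2
      obtain ⟨g, hg⟩ := SetLike.exists_of_lt hse.1.lt_top |>.imp fun g h => h.2
      obtain ⟨c, hc⟩ := isConj_iff.mp (hconj s x₀ hs2 hx₀)
      have hxK : x₀ ∈ K := hc ▸ Subgroup.Normal.conj_mem inferInstance s hs c
      exact hg (hfus g x₀ hx₀S hx₀ (hHinv _ (hKH (Subgroup.Normal.conj_mem inferInstance _ hxK g))
        (by rw [CfsgLib.StronglyEmbedded.orderOf_conj, hx₀])))
    have hdisj : ∀ z ∈ K, z ∈ S → z = 1 := by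
      intro z hz hzS
      by_contra hne
      obtain ⟨k, hk⟩ := hSp ⟨z, hzS⟩
      have hk' : z ^ 2 ^ k = 1 := congrArg Subtype.val hk
      obtain ⟨j, -, hj⟩ := (Nat.dvd_prime_pow Nat.prime_two).mp (orderOf_dvd_of_pow_eq_one hk')
      have hj0 : j ≠ 0 := fun h => hne (orderOf_eq_one_iff.mp (by rw [hj, h, pow_zero]))
      have h2 : 2 ∣ Nat.card (Subgroup.zpowers z) := by
        rw [Nat.card_zpowers, hj]; exact dvd_pow_self 2 hj0
      obtain ⟨w, hw⟩ := exists_prime_orderOf_dvd_card' 2 h2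
      exact hnoinv w.1 (Subgroup.zpowers_le.mpr hz w.2) (by rw [Subgroup.orderOf_coe]; exact hw)
    rw [eq_bot_iff]
    intro z hz
    have hcomm : ∀ w ∈ S, z * w = w * z := by
      intro w hw
      have h1 : z * w * z⁻¹ * w⁻¹ = 1 := by
        refine hdisj _ ?_ (mul_mem ((Subgroup.mem_normalizer_iff.mp (hKH hz) w).mp hw) (inv_mem hw))
        rw [show z * w * z⁻¹ * w⁻¹ = z * (w * z⁻¹ * w⁻¹) by group]
        exact mul_mem hz (Subgroup.Normal.conj_mem inferInstance _ (inv_mem hz) w)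
      calc z * w = z * w * z⁻¹ * w⁻¹ * (w * z) := by group
        _ = w * z := by rw [h1, one_mul]
    have hzC : z ∈ C₀ := Subgroup.mem_centralizer_singleton_iff.mpr (hcomm x₀ hx₀S)
    have hzU := hUs ⟨z, hzC⟩ fun w hw => Subtype.ext (hcomm w (Subgroup.mem_map_of_mem _ hw))
    exact Subgroup.mem_bot.mpr (hdisj z hz ⟨⟨z, hzC⟩, hzU, rfl⟩)
  · -- the order of `H`
    have hCH : C₀ ≤ H := hC₀S
    have hsurj : Function.Bijective (fun h : ↥H ⧸ C₀.subgroupOf H =>
        Quotient.liftOn' h (fun h => (⟨(h : G) * x₀ * (h : G)⁻¹, (hImem _).2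
          ⟨(Subgroup.mem_normalizer_iff.mp h.2 x₀).mp hx₀S, by
            rw [CfsgLib.StronglyEmbedded.orderOf_conj, hx₀]⟩⟩ : I))
          (fun a b hab => by
            rw [QuotientGroup.leftRel_apply, Subgroup.mem_subgroupOf,
              Subgroup.mem_centralizer_singleton_iff] at hab
            push_cast at hab
            refine Subtype.ext ?_
            calc (a : G) * x₀ * (a : G)⁻¹
                = a * (x₀ * ((a : G)⁻¹ * b)) * (b : G)⁻¹ := by group
              _ = a * ((a : G)⁻¹ * b * x₀) * (b : G)⁻¹ := by rw [hab]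
              _ = b * x₀ * (b : G)⁻¹ := by group)) := by
      constructor
      · intro a b
        induction a using QuotientGroup.induction_on
        induction b using QuotientGroup.induction_on
        rename_i a b
        intro h
        rw [QuotientGroup.eq, Subgroup.mem_subgroupOf, Subgroup.mem_centralizer_singleton_iff]
        have h' : (a : G) * x₀ * (a : G)⁻¹ = b * x₀ * (b : G)⁻¹ := congrArg Subtype.val h
        push_cast
        calc (a : G)⁻¹ * b * x₀ = (a : G)⁻¹ * (b * x₀ * (b : G)⁻¹) * b := by group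
          _ = x₀ * ((a : G)⁻¹ * b) := by rw [← h']; group
      · rintro ⟨s, hs⟩
        obtain ⟨hsS, hs2⟩ := (hImem s).1 hs
        obtain ⟨c, hc⟩ := isConj_iff.mp (hconj x₀ s hx₀ hs2)
        have hcH : c ∈ H := hfus c x₀ hx₀S hx₀ (hc ▸ hsS)
        exact ⟨QuotientGroup.mk (⟨c, hcH⟩ : H), Subtype.ext hc⟩
    have hidx : (C₀.subgroupOf H).index = Nat.card I := by
      rw [Subgroup.index_eq_card]; exact Nat.card_eq_of_bijective _ hsurj
    rw [← Subgroup.card_mul_index (C₀.subgroupOf H), hidx,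
      Nat.card_congr (Subgroup.subgroupOfEquivOfLe hCH).toEquiv, hCc, mul_comm]
    congr 1
    omega
  · have hsS := hHinv s hs hs2
    rw [hCeq s hsS hs2]
    exact ⟨hCc, hC₀S, hSC, fun s' hs' hs'2 x hx => hcentral s' (hHinv s' hs' hs'2) hs'2 x hx⟩

end CfsgLib.PGUThreeEven
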