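import Cfsg.Agent.PGUThreeEven.Local
import Cfsg.Agent.PGUThreeEven.Diagonal
import Cfsg.Agent.RankOne.Classify.U3Main
import Cfsg.Agent.RankOne.Classify.TOrder
import Cfsg.Agent.RankOne.Classify.TThreeLine

/-!
Characterisation of `PGU₃(q)`, `q` even, by the centraliser of an involution.
-/

set_option autoImplicit false
set_option linter.unusedSectionVars false
set_option linter.style.haveILetI false

universe u v

namespace CfsgLib.PGUThreeEven

open Cfsg MulAction CfsgLib.StrongEmb CfsgLib.UnitaryThree CfsgLib.RankOneClassify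
  CfsgLib.RankOneSetup CfsgLib.RankOneClassify.Model

variable {G : Type u} [Group G] [Finite G] {F : Type v} [Field F] [Fintype F] {n : ℕ}

theorem transport_uni {F₁ : Type} [Field F₁] [Fintype F₁] {q : ℕ} (d₁ : Data F₁ q) (d : Data F q) :
    ∃ (f : F₁ ≃+* F) (e : uni d₁ ≃* uni d),
      ∀ u, coA (e u) = f (coA u) ∧ coB (e u) = f (coB u) := by
  let f : F₁ ≃+* F := FiniteField.ringEquivOfCardEq (by rw [d₁.card, d.card])
  let φ : uni d₁ →* uni d := MonoidHom.mk' (fun u => el d (f (coA u)) (f (coB u)) (by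
      have h := congrArg f (cond_coords u)
      simpa [Cond] using h))
    (fun u w => uni_ext (by simp [coA_mul]) (by simp [coB_mul]))
  have hinj : Function.Injective φ := fun u w h => uni_ext
    (f.injective (congrArg coA h :)) (f.injective (congrArg coB h :))
  exact ⟨f, MulEquiv.ofBijective φ ((Nat.bijective_iff_injective_and_card _).2
    ⟨hinj, by rw [card_uni d₁, card_uni d]⟩), fun u => ⟨rfl, rfl⟩⟩

set_option maxHeartbeats 1000000 in
theorem iso_pgu (hP : AllPPlus.{u}) (hn : 2 ≤ n) (d : Data F (2 ^ n))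
    (heven : Even (Nat.card G))
    (hconj : ∀ s t : G, orderOf s = 2 → orderOf t = 2 → IsConj s t)
    (hC : ∀ x : G, orderOf x = 2 →
      CentShape ↥(Subgroup.centralizer ({x} : Set G)) (2 ^ n))
    (hS : ∀ P : Sylow 2 G, ¬ (P : Subgroup G).Normal) :
    Nonempty (G ≃* ↥(pgu d)) := by
  classical
  haveI : Fact (Nat.Prime 2) := ⟨Nat.prime_two⟩
  obtain ⟨S, H, L⟩ := exists_localData hn heven hconj hC hS
  obtain ⟨Q, hQ, hQ2, -⟩ := hP G H L.se L.rankTwo L.core
  have hq4 : 4 ≤ 2 ^ n := le_trans (by norm_num) (Nat.pow_le_pow_right two_pos hn)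
  -- `Q` is the Sylow subgroup
  obtain ⟨P, hPQ⟩ := exists_sylow_eq_regular L.se hQ hQ2
  have hQS : Q = S := by
    refine le_antisymm (L.sylow Q hQ2 hQ.1) ?_
    have hSp : IsPGroup 2 S := IsPGroup.of_card (n := n * 3) (by rw [L.card_S, ← pow_mul])
    rw [← hPQ]
    refine le_of_eq (P.3 hSp ?_)
    rw [hPQ]
    exact L.sylow Q hQ2 hQ.1
  haveI := faithfulSMul_quotient L.core
  obtain ⟨t, ht, htH⟩ := exists_involution_not_mem L.se
  have hR := isRankOneSetup L.se hQ ht htH
  set a : G ⧸ H := ((1 : G) : G ⧸ H) with ha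
  have hst : stabilizer G a = H := MulAction.stabilizer_quotient H
  have hd : CfsgLib.RankOneClassify.Data G (G ⧸ H) a t Q :=
    ⟨hR, inferInstance, L.rankTwo.exists_pair, hQ2⟩
  have hqn : qNum G (G ⧸ H) a = 2 ^ n := by rw [qNum, hst]; exact L.invol
  have hQcard : Nat.card Q = qNum G (G ⧸ H) a ^ 3 := by rw [hqn, hQS, L.card_S]
  have hnc : ¬ IsMulCommutative Q := by
    refine (order_holds (G := G) (Ω := G ⧸ H) a t Q hd).2 ?_
    rw [hQcard]
    exact (lt_self_pow₀ (by rw [hqn]; omega) (by norm_num)).ne'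
  obtain ⟨F₁, hF₁, hFt₁, m, d₁, ψ₁, -, -, hmap₁⟩ :=
    threeCoord G (G ⧸ H) a t Q hd hQcard hnc (threeLine_holds (G := G) (Ω := G ⧸ H) a t Q hd hQcard)
  letI := hF₁
  letI := hFt₁
  have hmn : 2 ^ m = 2 ^ n := by
    have h := Nat.card_congr ψ₁.toEquiv
    rw [card_uni d₁, hQcard, hqn] at h
    exact (Nat.pow_left_injective (by norm_num) h).symm
  obtain rfl : m = n := Nat.pow_right_injective (le_refl 2) hmn
  obtain ⟨f, e₁, he₁⟩ := transport_uni d₁ d
  let ψ : ↥Q ≃* ↥(uni d) := ψ₁.trans e₁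
  have hmap : ∀ x : ↥Q, x ≠ 1 → ∃ y : ↥Q, t • (x : G) • t • a = (y : G) • t • a ∧
      ψ y = flip (ψ x) := by
    intro x hx
    obtain ⟨y, hy, hyA, hyB⟩ := hmap₁ x hx
    have hx' : ψ x ≠ 1 := fun h => hx (ψ.injective (h.trans (map_one ψ).symm))
    refine ⟨y, hy, uni_ext ?_ ?_⟩
    · rw [coA_flip hx']
      show coA (e₁ (ψ₁ y)) = coA (e₁ (ψ₁ x)) / coB (e₁ (ψ₁ x))
      rw [(he₁ _).1, (he₁ _).1, (he₁ _).2, hyA, map_div₀]
    · rw [coB_flip hx']
      show coB (e₁ (ψ₁ y)) = 1 / coB (e₁ (ψ₁ x))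
      rw [(he₁ _).2, (he₁ _).2, hyB, map_div₀, map_one]
  -- the points
  have hexu : ∀ c : G ⧸ H, c ≠ a → ∃! r : G, r ∈ Q ∧ r • t • a = c :=
    fun c => existsUnique_from_b hR
  have hpt : ∀ x : Q, (x : G) • t • a ≠ a := fun x => smul_ne hR (smul_a hR x.2) (b_ne hR)
  let pt : Option (uni d) → G ⧸ H := fun p => p.elim a fun u => ((ψ.symm u : Q) : G) • t • a
  have hptb : Function.Bijective pt := by
    constructor
    · rintro (_ | u) (_ | w) h
      · rfl
      · exact absurd h.symm (hpt _)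
      · exact absurd h (hpt _)
      · obtain ⟨r, -, hu⟩ := hexu _ (hpt (ψ.symm u))
        exact congrArg some (ψ.symm.injective (Subtype.ext
          ((hu _ ⟨(ψ.symm u).2, rfl⟩).trans (hu _ ⟨(ψ.symm w).2, h.symm⟩).symm)))
    · intro c
      by_cases hc : c = a
      · exact ⟨none, hc.symm⟩
      · obtain ⟨r, ⟨hr, hrc⟩, -⟩ := hexu c hc
        exact ⟨some (ψ ⟨r, hr⟩), by simp [pt, hrc]⟩
  let e : G ⧸ H ≃ Option (uni d) := (Equiv.ofBijective pt hptb).symm
  have hes : ∀ p, e.symm p = pt p := fun p => rfl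
  have hpe : ∀ c, pt (e c) = c := fun c => e.symm_apply_apply c
  let ρ : G →* Equiv.Perm (Option (uni d)) :=
    e.permCongrHom.toMonoidHom.comp (MulAction.toPermHom G (G ⧸ H))
  have hρ : ∀ (g : G) p, ρ g p = e (g • pt p) := fun g p => rfl
  have hρ' : ∀ (g : G) p p', g • pt p = pt p' → ρ g p = p' := by
    intro g p p' h
    rw [hρ, h]
    exact (Equiv.ofBijective pt hptb).symm_apply_apply p'
  have hinj : Function.Injective ρ := fun g h hgh => eq_of_smul_eq_smul (α := G ⧸ H) fun ω => by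
    have := congrArg (fun π : Equiv.Perm (Option (uni d)) => π (e ω)) hgh
    simp only [hρ, hpe] at this
    exact e.injective this
  have hpt1 : pt (some 1) = t • a := by simp [pt]
  have hρQ : ∀ x : Q, ρ (x : G) = trU d (ψ x) := fun x => Equiv.ext fun p => by
    cases p with
    | none =>
      rw [trU_none]
      exact hρ' _ _ _ (smul_a hR x.2)
    | some w =>
      rw [trU_some]
      refine hρ' _ _ _ ?_
      simp [pt, mul_smul]
  have hρt0 : ρ t none = some 1 := hρ' _ _ _ (by rw [hpt1]; rfl)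
  have hρt1 : ρ t (some 1) = none := hρ' _ _ _ (by rw [hpt1, t_b hR]; rfl)
  have hρts : ∀ u : uni d, u ≠ 1 → ρ t (some u) = some (flip u) := by
    intro u hu
    obtain ⟨y, hy, hyf⟩ := hmap (ψ.symm u) (fun h => hu (by simpa using congrArg ψ h))
    refine hρ' _ _ _ ?_
    rw [ψ.apply_symm_apply] at hyf
    show t • pt (some u) = pt (some (flip u))
    simp only [pt, Option.elim]
    rw [hy, ← hyf, ψ.symm_apply_apply]
  have hρt : ρ t = rep d (flipSU d) := Equiv.ext fun p => by
    cases p with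
    | none => rw [hρt0, rep_flip_none]
    | some w =>
      by_cases hw : w = 1
      · subst hw; rw [hρt1, rep_flip_one]
      · rw [hρts w hw, rep_flip_some hw]
  -- the elements fixing two points act by automorphisms
  set D := stabilizer G a ⊓ stabilizer G (t • a) with hD
  have hauto : ∀ x ∈ D, ∃ σ : MulAut (uni d), ρ x none = none ∧
      (∀ u, ρ x (some u) = some (σ u)) ∧
      ∀ u : uni d, x * ((ψ.symm u : Q) : G) * x⁻¹ = ((ψ.symm (σ u) : Q) : G) := by
    intro x hx
    let φ : uni d →* uni d := MonoidHom.mk'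
      (fun u => ψ ⟨x * ((ψ.symm u : Q) : G) * x⁻¹, hR.conj_mem x hx.1 _ (ψ.symm u).2⟩)
      (fun u w => by
        rw [← map_mul ψ]
        refine congrArg ψ (Subtype.ext ?_)
        simp [map_mul])
    have hφi : Function.Injective φ := fun u w h => by
      have h' := congrArg Subtype.val (ψ.injective h)
      exact ψ.symm.injective (Subtype.ext (mul_left_cancel (mul_right_cancel h')))
    let σ : MulAut (uni d) := MulEquiv.ofBijective φ (Finite.injective_iff_bijective.mp hφi)
    have hσ : ∀ u : uni d, x * ((ψ.symm u : Q) : G) * x⁻¹ = ((ψ.symm (σ u) : Q) : G) := fun u => by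
      show _ = ((ψ.symm (ψ _) : Q) : G)
      rw [ψ.symm_apply_apply]
    refine ⟨σ, hρ' _ _ _ hx.1, fun u => hρ' _ _ _ ?_, hσ⟩
    show x • pt (some u) = pt (some (σ u))
    simp only [pt, Option.elim]
    rw [← hσ u, mul_smul, mul_smul,
      show x⁻¹ • t • a = t • a from inv_smul_eq_iff.mpr (Eq.symm hx.2)]
  -- the centraliser of an involution of `Q` in `D`
  obtain ⟨s, hs, hs2⟩ : ∃ s ∈ Q, orderOf s = 2 := by
    have h2 : 2 ∣ Nat.card Q := even_iff_two_dvd.mp hR.even_card
    obtain ⟨s, hs⟩ := exists_prime_orderOf_dvd_card' 2 h2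
    exact ⟨s, s.2, by rw [Subgroup.orderOf_coe]; exact hs⟩
  have hQH : Q ≤ H := hQ.1
  obtain ⟨hcs, hcH, hScs, hcz⟩ := L.cent_card s (hQH hs) hs2
  set E := Subgroup.centralizer ({s} : Set G) ⊓ D with hE
  have hEcard : 2 ^ m + 1 ≤ Nat.card E := by
    have hle : Nat.card (Subgroup.centralizer ({s} : Set G)) ≤ Nat.card Q * Nat.card E := by
      rw [← Nat.card_prod]
      have hex : ∀ c : Subgroup.centralizer ({s} : Set G), ∃ p : Q × E, (p.1 : G) * p.2 = c := by
        intro c
        obtain ⟨r, hr, k, hk, hrk⟩ := exists_QD hR (g := (c : G))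
          (by
            have : (c : G) ∈ stabilizer G a := by rw [hst]; exact hcH c.2
            exact this)
        refine ⟨(⟨r, hr⟩, ⟨k, ?_, hk⟩), hrk.symm⟩
        rw [show k = r⁻¹ * (c : G) by rw [hrk, inv_mul_cancel_left]]
        exact (Subgroup.centralizer ({s} : Set G)).mul_mem
          ((Subgroup.centralizer ({s} : Set G)).inv_mem (hScs (hQS ▸ hr))) c.2
      choose p hp using hex
      exact Nat.card_le_card_of_injective p fun x y h => Subtype.ext (by rw [← hp x, ← hp y, h])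
    rw [hcs, hQcard, hqn] at hle
    exact Nat.le_of_mul_le_mul_left hle (pow_pos (by omega) 3)
  have hdiag : ∀ x ∈ E, ∃ (μ : Fˣ) (hμ : (μ : F) ^ (2 ^ m + 1) = 1), ρ x = tor d μ hμ := by
    rintro x ⟨hxC, hxD⟩
    obtain ⟨σ, hσ0, hσs, hσc⟩ := hauto x hxD
    have hfix : ∀ g, coA g = 0 → σ g = g := by
      intro g hg
      rcases eq_or_ne g 1 with rfl | hg1
      · exact map_one σ
      set w : G := ((ψ.symm g : Q) : G) with hw
      have hgg : g * g = 1 := uni_ext (by rw [(sq_eq g).1, coA_one])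
        (by rw [(sq_eq g).2, hg, coB_one, zero_pow (Nat.succ_ne_zero _)])
      have hw2 : orderOf w = 2 := by
        rw [hw, Subgroup.orderOf_coe, MulEquiv.orderOf_eq]
        exact orderOf_eq_prime (by rw [sq, hgg]) hg1
      have hxw := hcz w (hQH (ψ.symm g).2) hw2 x hxC
      refine ψ.symm.injective (Subtype.ext ?_)
      rw [← hσc, hxw, mul_inv_cancel_right]
    have hodd : Odd (orderOf x) := hR.odd_card.of_dvd_nat (Subgroup.orderOf_dvd_natCard _ hxD)
    have hpow : σ ^ orderOf x = 1 := by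
      have key : ∀ (k : ℕ) (u : uni d), (ρ x ^ k) (some u) = some ((σ ^ k) u) := by
        intro k
        induction k with
        | zero => intro u; rfl
        | succ k ih =>
          intro u
          rw [pow_succ, pow_succ, Equiv.Perm.mul_apply, hσs, ih, MulAut.mul_apply]
      refine MulEquiv.ext fun u => Option.some_injective _ ?_
      rw [← key, ← map_pow, pow_orderOf_eq_one, map_one]
      rfl
    obtain ⟨μ, h, hμ, hsh⟩ := exists_shear_liftAut hfix hodd hpow
    have htx : t * x * t ∈ D := by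
      refine Subgroup.mem_inf.mpr ⟨?_, ?_⟩
      · show (t * x * t) • a = a
        rw [mul_smul, mul_smul, show x • t • a = t • a from hxD.2, t_b hR]
      · show (t * x * t) • t • a = t • a
        rw [mul_smul, mul_smul, t_b hR, show x • a = a from hxD.1]
    obtain ⟨σ', -, hσ's, -⟩ := hauto _ htx
    have hlift := eq_liftAut hμ hsh (σ' := σ') fun u hu => Option.some_injective _ (by
      have hσu : σ u ≠ 1 := fun h => hu (σ.injective (h.trans (map_one σ).symm))
      have e1 : ρ (t * x * t) (some (flip u)) = ρ (t * x) (some u) := by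
        rw [← hρts u hu, ← Equiv.Perm.mul_apply, ← map_mul, mul_assoc, hR.mul_self, mul_one]
      rw [hσ's, map_mul, Equiv.Perm.mul_apply, hσs, hρts _ hσu] at e1
      exact e1)
    refine ⟨μ, hμ, Equiv.ext fun p => ?_⟩
    cases p with
    | none => rw [hσ0, tor_none]
    | some u => rw [hσs, tor_some, hlift]
  -- surjectivity onto the torus
  have hsurj : ∀ (μ : Fˣ) (hμ : (μ : F) ^ (2 ^ m + 1) = 1), ∃ x ∈ E, ρ x = tor d μ hμ := by
    choose μf hμf hρf using fun x : E => hdiag x.1 x.2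
    let T := {z : F // z ^ (2 ^ m + 1) = 1}
    let φ : E → T := fun x => ⟨μf x, hμf x⟩
    have hφ : Function.Injective φ := fun x y h => Subtype.ext (hinj (by
      have h' : μf x = μf y := Units.ext (congrArg Subtype.val h)
      refine (hρf x).trans (Eq.trans ?_ (hρf y).symm)
      simp only [h']))
    have hb : Function.Bijective φ := (Nat.bijective_iff_injective_and_card _).2
      ⟨hφ, le_antisymm (Nat.card_le_card_of_injective φ hφ)
        (le_trans (le_of_eq (CfsgLib.Unitary.card_norm_one d.card)) hEcard)⟩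
    intro μ hμ
    obtain ⟨x, hx⟩ := hb.2 ⟨(μ : F), hμ⟩
    refine ⟨x.1, x.2, ?_⟩
    have h' : μf x = μ := Units.ext (congrArg Subtype.val hx)
    rw [hρf x]
    simp only [h']
  have hle : pgu d ≤ ρ.range := pgu_le (by omega)
    (fun u => ⟨((ψ.symm u : Q) : G), by rw [hρQ, ψ.apply_symm_apply]⟩) ⟨t, hρt⟩
    (fun μ hμ => by obtain ⟨x, -, hx⟩ := hsurj μ hμ; exact ⟨x, hx⟩)
  -- the orders
  have hΩ : Nat.card (G ⧸ H) = (2 ^ m) ^ 3 + 1 := by
    rw [Nat.card_congr e, Finite.card_option, card_uni d]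
  have hG : Nat.card G ≤ Nat.card (pgu d) := by
    refine le_trans (le_of_eq ?_) (card_pgu_ge d)
    rw [Subgroup.card_eq_card_quotient_mul_card_subgroup H, hΩ, L.card_H]
    have : (2 ^ m) ^ 2 - 1 = (2 ^ m - 1) * (2 ^ m + 1) := by
      have := Nat.sq_sub_sq (2 ^ m) 1
      rw [one_pow, mul_comm] at this
      exact this
    rw [this]
    ring
  have hrange : ρ.range = pgu d := by
    refine (Subgroup.eq_of_le_of_card_ge hle ?_).symm
    rw [← Nat.card_congr (MonoidHom.ofInjective hinj).toEquiv]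
    exact hG
  exact ⟨(MonoidHom.ofInjective hinj).trans (MulEquiv.subgroupCongr hrange)⟩

end CfsgLib.PGUThreeEven
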