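import Cfsg.Agent.PGUThreeEven.Main

/-!
The recognition of `PGU₃(2^n)` by the centraliser of an involution, in the shape of S2212, given
stage 1 of Bender's theorem.
-/

set_option autoImplicit false
set_option linter.unusedSectionVars false

universe u v

namespace CfsgLib.PGUThreeEven

open Cfsg CfsgLib.UnitaryThree CfsgLib.RankOneClassify

theorem mulEquiv_centralizer {K K' : Type*} [Group K] [Group K'] (e : K ≃* K') (y : K') :
    Nonempty (↥(Subgroup.centralizer ({e.symm y} : Set K)) ≃*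
      ↥(Subgroup.centralizer ({y} : Set K'))) := by
  refine ⟨(e.subgroupMap _).trans (MulEquiv.subgroupCongr ?_)⟩
  ext z
  obtain ⟨x, rfl⟩ := e.surjective z
  rw [Subgroup.mem_centralizer_singleton_iff]
  constructor
  · rintro ⟨x', hx', he⟩
    obtain rfl : x' = x := e.injective he
    have h := congrArg e (Subgroup.mem_centralizer_singleton_iff.mp hx')
    simpa using h
  · intro h
    refine ⟨x, Subgroup.mem_centralizer_singleton_iff.mpr (e.injective ?_), rfl⟩
    simpa using h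

theorem recognise (hP : AllPPlus.{u}) {G : Type u} [Group G] [Finite G] {F : Type v} [Field F]
    [Fintype F] [CharP F 2] (q : ℕ) (hq : 2 < q) (hF : Fintype.card F = q ^ 2)
    (heven : Even (Nat.card G))
    (hconj : ∀ s t : G, orderOf s = 2 → orderOf t = 2 → IsConj s t)
    (hC : ∀ (x : G) (y : (↥(Cfsg.GU 3 F q) ⧸ Subgroup.center ↥(Cfsg.GU 3 F q))),
      orderOf x = 2 → orderOf y = 2 →
      Nonempty (↥(Subgroup.centralizer ({x} : Set G)) ≃*
        ↥(Subgroup.centralizer ({y} : Set (↥(Cfsg.GU 3 F q) ⧸ Subgroup.center ↥(Cfsg.GU 3 F q))))))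
    (hS : ∀ P : Sylow 2 G, ¬ (P : Subgroup G).Normal) :
    Nonempty (G ≃* (↥(Cfsg.GU 3 F q) ⧸ Subgroup.center ↥(Cfsg.GU 3 F q))) := by
  haveI : Fact (Nat.Prime 2) := ⟨Nat.prime_two⟩
  obtain ⟨k, -, hk⟩ := FiniteField.card F 2
  have hdvd : q ∣ 2 ^ (k : ℕ) := by rw [← hk, hF]; exact dvd_pow_self q two_ne_zero
  obtain ⟨n, -, rfl⟩ := (Nat.dvd_prime_pow Nat.prime_two).mp hdvd
  have hn : 2 ≤ n := by
    by_contra h
    interval_cases n <;> omega
  let d : UnitaryThree.Data F (2 ^ n) := ⟨hF, CharTwo.two_eq_zero⟩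
  have hC' : ∀ x : G, orderOf x = 2 →
      CentShape ↥(Subgroup.centralizer ({x} : Set G)) (2 ^ n) := by
    intro x hx
    obtain ⟨e₁⟩ := hC x ((pguEquiv d).symm (yPerm d)) hx (by
      rw [MulEquiv.orderOf_eq, orderOf_yPerm])
    obtain ⟨e₂⟩ := mulEquiv_centralizer (pguEquiv d) (yPerm d)
    exact (centShape_yPerm d).map (e₁.trans e₂).symm
  obtain ⟨e⟩ := iso_pgu hP hn d heven hconj hC' hS
  exact ⟨e.trans (pguEquiv d).symm⟩

end CfsgLib.PGUThreeEven
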